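import Cfsg.Agent.H75.FixCount
import Cfsg.Agent.Coprime.Generation

/-!
For `A` elementary abelian of order `q ^ 3` acting coprimely on `V`, with `k` subgroups `B` of order
`q ^ 2`, the order of `V` is determined by the fixed points:
`|V| * |C_V(A)| ^ (k - 1) = ∏_B |C_V(B)|`.
-/

set_option autoImplicit false

namespace Cfsg.Agent.H62.BoundedDerived

open Subgroup H75

universe u v

variable {E : Type v} [Group E] [Finite E]

/-- The subgroups of order `q ^ 2`. -/
noncomputable def hyp (E : Type v) [Group E] [Finite E] (q : ℕ) : Finset (Subgroup E) := by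
  classical
  exact (Set.toFinite {B : Subgroup E | Nat.card B = q ^ 2}).toFinset

theorem mem_hyp {q : ℕ} {B : Subgroup E} : B ∈ hyp E q ↔ Nat.card B = q ^ 2 := by
  classical
  simp [hyp]

variable {q : ℕ} [hq : Fact q.Prime] (hE : Nat.card E = q ^ 3) (hEc : ∀ a b : E, a * b = b * a)
  (hEe : ∀ a : E, a ^ q = 1)

include hE hEc

omit hEc in
/-- Two subgroups of order `q ^ 2` share a nontrivial element. -/
theorem exists_common {B₁ B₂ : Subgroup E} (h₁ : B₁ ∈ hyp E q) (h₂ : B₂ ∈ hyp E q) :
    ∃ a : E, a ≠ 1 ∧ a ∈ B₁ ∧ a ∈ B₂ := by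
  by_contra h
  push Not at h
  have hinj : Function.Injective fun x : B₁ × B₂ => (x.1 : E) * (x.2 : E) := by
    rintro ⟨a, b⟩ ⟨a', b'⟩ hab
    have h3 : (a' : E)⁻¹ * a = b' * (b : E)⁻¹ := by
      simp only at hab
      rw [eq_mul_inv_iff_mul_eq, mul_assoc, hab, inv_mul_cancel_left]
    have h4 : (a' : E)⁻¹ * a = 1 := by
      by_contra hne
      exact h _ hne (mul_mem (inv_mem a'.2) a.2) (h3 ▸ mul_mem b'.2 (inv_mem b.2))
    have h5 : (a : E) = a' := (inv_mul_eq_one.mp h4).symm
    simp only [h5, mul_left_cancel_iff] at hab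
    exact Prod.ext (Subtype.ext h5) (Subtype.ext hab)
  have := Nat.card_le_card_of_injective _ hinj
  rw [Nat.card_prod, mem_hyp.mp h₁, mem_hyp.mp h₂, hE, ← pow_add] at this
  have h6 : q ^ 3 < q ^ (2 + 2) := Nat.pow_lt_pow_right hq.out.one_lt (by norm_num)
  omega

include hEe in
/-- A subgroup with cyclic quotient contains a subgroup of order `q ^ 2`. -/
theorem exists_hyp_le {B : Subgroup E} {a : E} (h : B ⊔ zpowers a = ⊤) :
    ∃ B₀ ∈ hyp E q, B₀ ≤ B := by
  haveI : (zpowers a).Normal :=
    ⟨fun n hn g => by rwa [hEc g n, mul_inv_cancel_right]⟩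
  have hsurj : Function.Surjective fun x : B × zpowers a => (x.1 : E) * (x.2 : E) := by
    intro e
    obtain ⟨b, hb, z, hz, rfl⟩ := mem_sup_of_normal_right.mp (h.symm ▸ mem_top e : e ∈ B ⊔ zpowers a)
    exact ⟨(⟨b, hb⟩, ⟨z, hz⟩), rfl⟩
  have h1 := Nat.card_le_card_of_surjective _ hsurj
  rw [Nat.card_prod, hE] at h1
  have h2 : Nat.card (zpowers a) ≤ q := by
    rw [Nat.card_zpowers]
    exact Nat.le_of_dvd hq.out.pos (orderOf_dvd_of_pow_eq_one (hEe a))
  have h3 : q ^ 2 ≤ Nat.card B := by
    have := h1.trans (Nat.mul_le_mul_left _ h2)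
    rw [pow_succ] at this
    exact Nat.le_of_mul_le_mul_right this hq.out.pos
  obtain ⟨j, hj⟩ := (Nat.dvd_prime_pow hq.out).mp (hE ▸ card_subgroup_dvd_card B)
  have hj2 : 2 ≤ j := (Nat.pow_le_pow_iff_right hq.out.one_lt).mp (hj.2 ▸ h3)
  obtain ⟨B', hB'⟩ := Sylow.exists_subgroup_card_pow_prime q (G := B) (n := 2)
    (hj.2 ▸ pow_dvd_pow q hj2)
  exact ⟨B'.map B.subtype, mem_hyp.mpr (by rw [card_subtype]; exact hB'), map_subtype_le _⟩

omit hEc in
theorem hyp_nonempty : (hyp E q).Nonempty := by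
  obtain ⟨B', hB'⟩ := Sylow.exists_subgroup_card_pow_prime q (G := E) (n := 2)
    (hE ▸ pow_dvd_pow q (by norm_num : 2 ≤ 3))
  exact ⟨B', mem_hyp.mpr hB'⟩

variable {G : Type u} [Group G] [Finite G]

omit hE hEc in
theorem card_range_dvd (f : E →* G) : Nat.card f.range ∣ Nat.card E := by
  rw [← Nat.card_congr (QuotientGroup.quotientKerEquivRange f).toEquiv]
  exact card_quotient_dvd_card _

omit hE hEc in
theorem isMulCommutative_range (f : E →* G) (hEc : ∀ a b : E, a * b = b * a) :
    IsMulCommutative f.range :=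
  ⟨⟨by rintro ⟨_, a, rfl⟩ ⟨_, b, rfl⟩; exact Subtype.ext (by simp [← map_mul, hEc a b])⟩⟩

include hEe in
/-- `V` is generated by the fixed points of the subgroups of order `q ^ 2`. -/
theorem le_of_fixed_le (V M : Subgroup G) (f : E →* G) (hf : f.range ≤ normalizer (V : Set G))
    (hcop : (Nat.card E).Coprime (Nat.card V))
    (hM : ∀ B ∈ hyp E q, V ⊓ centralizer ((B.map f : Subgroup G) : Set G) ≤ M) : V ≤ M := by
  haveI := isMulCommutative_range f hEc
  refine Coprime.le_of_centralizer_cyclic_quotient_le hf (hcop.coprime_dvd_left (card_range_dvd f))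
    fun B hB ⟨x, hx, hsup⟩ => ?_
  obtain ⟨a, rfl⟩ := hx
  have htop : B.comap f ⊔ zpowers a = ⊤ := by
    rw [eq_top_iff]
    intro e _
    have he : f e ∈ B ⊔ zpowers (f a) := hsup.symm ▸ ⟨e, rfl⟩
    haveI : (zpowers a).Normal := ⟨fun n hn g => by rwa [hEc g n, mul_inv_cancel_right]⟩
    have h1 : B ⊔ zpowers (f a) ≤ (B.comap f ⊔ zpowers a).map f := by
      rw [Subgroup.map_sup, MonoidHom.map_zpowers, map_comap_eq, inf_eq_right.mpr hB]
    obtain ⟨e', he', hee⟩ := h1 he
    have h2 : e'⁻¹ * e ∈ B.comap f := by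
      show f (e'⁻¹ * e) ∈ B
      rw [map_mul, map_inv, hee, inv_mul_cancel]
      exact one_mem _
    rw [← mul_inv_cancel_left e' e]
    exact mul_mem he' (mem_sup_left h2)
  obtain ⟨B₀, hB₀, hle⟩ := exists_hyp_le hE hEc hEe htop
  exact (inf_le_inf_left _ (centralizer_le (map_le_iff_le_comap.mpr hle))).trans (hM B₀ hB₀)

omit hE hEc in
/-- Fixed points in an invariant Sylow subgroup: the `r`-part. -/
theorem fixCard_sylow {V X A : Subgroup G} (r : ℕ) [Fact r.Prime] (hAV : A ≤ normalizer (V : Set G))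
    (hcop : (Nat.card A).Coprime (Nat.card V)) (hXA : X ≤ A) (hsolv : Group.IsSolvable X)
    (Q : Sylow r V) (hQ : A ≤ normalizer (((Q : Subgroup V).map V.subtype : Subgroup G) : Set G)) :
    fixCard ((Q : Subgroup V).map V.subtype) X = r ^ (fixCard V X).factorization r := by
  have hXV := hXA.trans hAV
  have hcopX : (Nat.card X).Coprime (Nat.card V) := hcop.coprime_dvd_left (card_dvd_of_le hXA)
  set C := V ⊓ centralizer (X : Set G) with hC
  obtain ⟨T⟩ : Nonempty (Sylow r C) := inferInstance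
  set T' := (T : Subgroup C).map C.subtype with hT'
  have hT'C : T' ≤ C := map_subtype_le _
  have hT'n : X ≤ normalizer (T' : Set G) := by
    intro a ha
    rw [Subgroup.mem_normalizer_iff]
    intro t
    have key : ∀ a ∈ X, ∀ t ∈ T', a * t * a⁻¹ ∈ T' := fun a ha t ht => by
      rwa [mem_centralizer_iff.mp (hT'C ht).2 a ha, mul_inv_cancel_right]
    exact ⟨key a ha t, fun h => by simpa [mul_assoc] using key a⁻¹ (inv_mem ha) _ h⟩
  obtain ⟨R, hTR, hR⟩ := Coprime.exists_invariant_sylow_ge hXV hcopX (Or.inl hsolv) r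
    (hT'C.trans inf_le_left) (T.isPGroup'.map _) hT'n
  obtain ⟨c, hc, hcR⟩ := Coprime.exists_conj_invariant_sylow hXV hcopX (Or.inl hsolv) r R Q hR
    (hXA.trans hQ)
  have hmap : T'.map (MulAut.conj (c : G)).toMonoidHom ≤
      (Q : Subgroup V).map V.subtype ⊓ centralizer (X : Set G) := by
    rintro _ ⟨t, ht, rfl⟩
    refine ⟨?_, (centralizer _).mul_mem ((centralizer _).mul_mem hc (hT'C ht).2) (inv_mem hc)⟩
    obtain ⟨s, hs, hst⟩ := hTR ht
    refine ⟨c * s * c⁻¹, ?_, by simp [← hst]⟩
    rw [← hcR]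
    exact ⟨s, hs, rfl⟩
  have hd1 := card_dvd_of_le hmap
  rw [Coprime.card_map_conj, hT', card_subtype, T.card_eq_multiplicity] at hd1
  have hd2 : fixCard ((Q : Subgroup V).map V.subtype) X ∣ fixCard V X :=
    card_dvd_of_le (inf_le_inf_right _ (map_subtype_le _))
  obtain ⟨j, hj⟩ := IsPGroup.iff_card.mp ((Q.isPGroup'.map V.subtype).to_le
    (inf_le_left : (Q : Subgroup V).map V.subtype ⊓ centralizer (X : Set G) ≤ _))
  unfold fixCard at hd2 ⊢
  rw [hj] at hd1 hd2 ⊢
  refine Nat.dvd_antisymm (pow_dvd_pow r ?_) hd1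
  exact ((Fact.out : r.Prime).pow_dvd_iff_le_factorization Nat.card_pos.ne').mp hd2

omit hE hEc in
/-- Fixed points are the product over invariant Sylow subgroups. -/
theorem fixCard_prod {V X A : Subgroup G} (hAV : A ≤ normalizer (V : Set G))
    (hcop : (Nat.card A).Coprime (Nat.card V)) (hXA : X ≤ A) (hsolv : Group.IsSolvable X)
    (S : ℕ → Subgroup G) (hS : ∀ r ∈ (Nat.card V).primeFactors, ∃ Q : Sylow r V,
      S r = (Q : Subgroup V).map V.subtype ∧ A ≤ normalizer (S r : Set G)) :
    ∏ r ∈ (Nat.card V).primeFactors, fixCard (S r) X = fixCard V X := by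
  set c := fixCard V X with hc
  have hc0 : c ≠ 0 := Nat.card_pos.ne'
  have hsub : c.primeFactors ⊆ (Nat.card V).primeFactors :=
    Nat.primeFactors_mono (card_dvd_of_le inf_le_left) Nat.card_pos.ne'
  conv_rhs => rw [← Nat.prod_factorization_pow_eq_self hc0]
  rw [Finsupp.prod, Nat.support_factorization]
  rw [Finset.prod_subset hsub fun r _ hr => by
    rw [← Nat.support_factorization, Finsupp.notMem_support_iff] at hr
    rw [hr, pow_zero]]
  refine Finset.prod_congr rfl fun r hr => ?_
  haveI : Fact r.Prime := ⟨Nat.prime_of_mem_primeFactors hr⟩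
  obtain ⟨Q, hQ, hA⟩ := hS r hr
  rw [hQ] at hA ⊢
  exact fixCard_sylow r hAV hcop hXA hsolv Q hA

include hEe in
theorem formula_aux : ∀ (n : ℕ) (G : Type u) [Group G] [Finite G] (V : Subgroup G) (f : E →* G),
    Nat.card V = n → f.range ≤ normalizer (V : Set G) → (Nat.card E).Coprime (Nat.card V) →
      Nat.card V * fixCard V f.range ^ ((hyp E q).card - 1) =
        ∏ B ∈ hyp E q, fixCard V (B.map f) := by
  intro n
  induction n using Nat.strong_induction_on with
  | _ n IH =>
  intro G _ _ V f hn hf hcop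
  classical
  have hcf : (Nat.card f.range).Coprime (Nat.card V) := hcop.coprime_dvd_left (card_range_dvd f)
  have hsol : ∀ X : Subgroup E, Group.IsSolvable (X.map f) := by
    intro X
    haveI : IsMulCommutative (X.map f) :=
      ⟨⟨by rintro ⟨_, a, -, rfl⟩ ⟨_, b, -, rfl⟩; exact Subtype.ext (by simp [← map_mul, hEc a b])⟩⟩
    exact Group.isSolvable_of_comm fun a b => IsMulCommutative.is_comm.comm a b
  have hsolr : Group.IsSolvable f.range := by
    haveI := isMulCommutative_range f hEc
    exact Group.isSolvable_of_comm fun a b => IsMulCommutative.is_comm.comm a b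
  have hle : ∀ B : Subgroup E, B.map f ≤ f.range := fun B => map_le_range f B
  by_cases htriv : V ≤ centralizer (f.range : Set G)
  · have h1 : fixCard V f.range = Nat.card V := by rw [fixCard, inf_eq_left.mpr htriv]
    have h2 : ∀ B : Subgroup E, fixCard V (B.map f) = Nat.card V := fun B => by
      rw [fixCard, inf_eq_left.mpr (htriv.trans (centralizer_le (hle B)))]
    rw [h1, Finset.prod_congr rfl (fun B _ => h2 B), Finset.prod_const, ← pow_succ',
      Nat.sub_add_cancel (Finset.card_pos.mpr (hyp_nonempty hE))]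
  by_cases hprime : ∃ r : ℕ, r.Prime ∧ IsPGroup r V
  swap
  · -- split over invariant Sylow subgroups
    have hex : ∀ r : ℕ, ∃ S : Subgroup G, r ∈ (Nat.card V).primeFactors → ∃ Q : Sylow r V,
        S = (Q : Subgroup V).map V.subtype ∧ f.range ≤ normalizer (S : Set G) := by
      intro r
      by_cases hr : r ∈ (Nat.card V).primeFactors
      swap
      · exact ⟨⊥, fun h => absurd h hr⟩
      haveI : Fact r.Prime := ⟨Nat.prime_of_mem_primeFactors hr⟩
      obtain ⟨Q, hQ⟩ := Coprime.exists_invariant_sylow hf hcf (Or.inl hsolr) r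
      exact ⟨_, fun _ => ⟨Q, rfl, hQ⟩⟩
    choose S hS using hex
    have hSV : ∀ r ∈ (Nat.card V).primeFactors, S r ≤ V ∧
        Nat.card (S r) = r ^ (Nat.card V).factorization r ∧ f.range ≤ normalizer (S r : Set G) := by
      intro r hr
      haveI : Fact r.Prime := ⟨Nat.prime_of_mem_primeFactors hr⟩
      obtain ⟨Q, hQ, hQn⟩ := hS r hr
      exact ⟨hQ ▸ map_subtype_le _, by rw [hQ, card_subtype]; exact Q.card_eq_multiplicity, hQn⟩
    have hIH : ∀ r ∈ (Nat.card V).primeFactors,
        Nat.card (S r) * fixCard (S r) f.range ^ ((hyp E q).card - 1) =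
          ∏ B ∈ hyp E q, fixCard (S r) (B.map f) := by
      intro r hr
      obtain ⟨h1, h2, h3⟩ := hSV r hr
      refine IH _ ?_ G (S r) f rfl h3 (hcop.coprime_dvd_right (card_dvd_of_le h1))
      rw [← hn]
      refine lt_of_le_of_ne (card_le_of_le h1) fun h =>
        hprime ⟨r, Nat.prime_of_mem_primeFactors hr, IsPGroup.of_card (h ▸ h2)⟩
    have hprodV : ∏ r ∈ (Nat.card V).primeFactors, Nat.card (S r) = Nat.card V := by
      rw [Finset.prod_congr rfl fun r hr => (hSV r hr).2.1]
      exact Nat.prod_factorization_pow_eq_self Nat.card_pos.ne'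
    rw [← fixCard_prod hf hcf le_rfl hsolr S hS,
      ← Finset.prod_congr rfl (fun B _ => fixCard_prod hf hcf (hle B) (hsol B) S hS), Finset.prod_comm,
      ← Finset.prod_pow]
    conv_lhs => arg 1; rw [← hprodV]
    rw [← Finset.prod_mul_distrib]
    exact Finset.prod_congr rfl hIH
  obtain ⟨r, hr, hrV⟩ := hprime
  haveI : Fact r.Prime := ⟨hr⟩
  by_cases hred : ∃ W : Subgroup G, W ≤ V ∧ f.range ≤ normalizer (W : Set G) ∧
      V ≤ normalizer (W : Set G) ∧ W ≠ ⊥ ∧ W ≠ V
  · -- split over an invariant normal subgroup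
    obtain ⟨W, hWV, hWA, hWVn, hW1, hW2⟩ := hred
    have hIH1 := IH _ (hn ▸ lt_of_le_of_ne (card_le_of_le hWV) fun h => hW2 (eq_of_le_of_card_ge hWV h.ge))
      G W f rfl hWA (hcop.coprime_dvd_right (card_dvd_of_le hWV))
    set X := normalizer (W : Set G) with hX
    set W' := W.subgroupOf X with hW'
    haveI : W'.Normal := normal_subgroupOf_of_le_normalizer le_rfl
    set V' := V.subgroupOf X with hV'
    set φ := QuotientGroup.mk' W' with hφ
    have hW'V' : W' ≤ V' := fun x hx => hWV hx
    have hcardW' : Nat.card W' = Nat.card W :=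
      Nat.card_congr (subgroupOfEquivOfLe (hWV.trans hWVn)).toEquiv
    have hcardV' : Nat.card V' = Nat.card V := Nat.card_congr (subgroupOfEquivOfLe hWVn).toEquiv
    let f' : E →* X := f.codRestrict X fun e => hWA ⟨e, rfl⟩
    have hf'V : f'.range ≤ normalizer (V' : Set X) := by
      rintro _ ⟨e, rfl⟩
      rw [Subgroup.mem_normalizer_iff]
      intro v
      exact Subgroup.mem_normalizer_iff.mp (hf ⟨e, rfl⟩) v
    have hVbar : Nat.card (V'.map φ) * Nat.card W' = Nat.card V' := by
      have h1 := Subgroup.card_mul_index (φ.comp V'.subtype).ker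
      rw [index_ker, MonoidHom.range_comp, range_subtype] at h1
      rw [← h1, mul_comm]
      congr 1
      rw [← Nat.card_congr (subgroupOfEquivOfLe hW'V').toEquiv]
      refine congrArg (fun H : Subgroup V' => Nat.card H) ?_
      ext x
      simp [hφ, mem_subgroupOf]
    have hVlt : Nat.card (V'.map φ) < n := by
      rw [← hn, ← hcardV', ← hVbar]
      exact lt_mul_of_one_lt_right Nat.card_pos (hcardW'.symm ▸ (one_lt_card_iff_ne_bot W).mpr hW1)
    have hIH2 := IH _ hVlt (X ⧸ W') (V'.map φ) (φ.comp f') rfl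
      (by rw [MonoidHom.range_comp]; exact (map_mono hf'V).trans (le_normalizer_map φ))
      (hcop.coprime_dvd_right (hcardV' ▸ Dvd.intro _ hVbar))
    have hmul : ∀ Y : Subgroup E, fixCard W (Y.map f) * fixCard (V'.map φ) (Y.map (φ.comp f')) =
        fixCard V (Y.map f) := by
      intro Y
      have hY : Y.map f ≤ X := (hle Y).trans hWA
      have hsub : (Y.map f).subgroupOf X = Y.map f' := by
        refine map_injective X.subtype_injective ?_
        rw [subgroupOf_map_subtype, inf_eq_left.mpr hY, Subgroup.map_map]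
        rfl
      have := fixCard_quotient hW'V' (A := Y.map f') ((map_le_range f' Y).trans hf'V)
        (by
          rw [hcardV', ← hsub, Nat.card_congr (subgroupOfEquivOfLe hY).toEquiv]
          exact hcf.coprime_dvd_left (card_dvd_of_le (hle Y)))
        (hsub ▸ Group.isSolvable_of_comm (fun a b => Subtype.ext (Subtype.ext (by
          obtain ⟨x, -, hx⟩ := (mem_subgroupOf.mp a.2)
          obtain ⟨y, -, hy⟩ := (mem_subgroupOf.mp b.2)
          simp only [Subgroup.coe_mul, ← hx, ← hy, ← map_mul, hEc x y]))))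
      rw [← hsub, fixCard_subgroupOf (hWV.trans hWVn) hY, fixCard_subgroupOf hWVn hY, hsub,
        Subgroup.map_map] at this
      exact this
    have hmulT := hmul ⊤
    rw [← MonoidHom.range_eq_map, ← MonoidHom.range_eq_map] at hmulT
    rw [← Finset.prod_congr rfl (fun B _ => hmul B), Finset.prod_mul_distrib, ← hIH1, ← hIH2, ← hmulT,
      ← hcardV', ← hVbar, hcardW', mul_pow]
    ring
  push Not at hred
  haveI : IsMulCommutative V := by
    haveI := hrV.isNilpotent
    by_contra hnc'
    have hVne : Nontrivial V := by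
      by_contra h
      rw [not_nontrivial_iff_subsingleton] at h
      exact hnc' ⟨⟨fun a b => Subsingleton.elim _ _⟩⟩
    haveI := hrV.center_nontrivial
    set W := (center V).map V.subtype with hW
    have hWA : f.range ≤ normalizer (W : Set G) := by
      have key : ∀ a ∈ f.range, ∀ w ∈ W, a * w * a⁻¹ ∈ W := by
        rintro a ha _ ⟨w, hw, rfl⟩
        refine ⟨⟨a * w * a⁻¹, (Subgroup.mem_normalizer_iff.mp (hf ha) w).mp w.2⟩, ?_, rfl⟩
        refine mem_center_iff.mpr fun v => Subtype.ext ?_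
        have hv : a⁻¹ * (v : G) * a ∈ V := by
          simpa using (Subgroup.mem_normalizer_iff.mp (hf (inv_mem ha)) (v : G)).mp v.2
        have h1 : a⁻¹ * (v : G) * a * w = w * (a⁻¹ * (v : G) * a) :=
          congrArg Subtype.val (mem_center_iff.mp hw ⟨_, hv⟩)
        show (v : G) * (a * w * a⁻¹) = a * w * a⁻¹ * v
        calc (v : G) * (a * w * a⁻¹) = a * (a⁻¹ * (v : G) * a * w) * a⁻¹ := by group
          _ = a * w * a⁻¹ * v := by rw [h1]; group
      intro a ha
      rw [Subgroup.mem_normalizer_iff]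
      exact fun w => ⟨key a ha w, fun hw => by simpa [mul_assoc] using key a⁻¹ (inv_mem ha) _ hw⟩
    have hWV : V ≤ normalizer (W : Set G) :=
      (normal_subgroupOf_iff_le_normalizer (map_subtype_le _)).mp (by
        rw [Subgroup.subgroupOf, comap_map_eq_self_of_injective V.subtype_injective]
        infer_instance)
    have hne : W ≠ ⊥ := by
      rw [hW, Ne, map_eq_bot_iff_of_injective _ V.subtype_injective]
      exact (nontrivial_iff_ne_bot _).mp inferInstance
    have heq := hred W (map_subtype_le _) hWA hWV hne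
    apply hnc'
    refine ⟨⟨fun a b => ?_⟩⟩
    have hb : (b : G) ∈ W := heq.symm ▸ b.2
    obtain ⟨c, hc, hcb⟩ := hb
    rw [← Subtype.ext hcb]
    exact mem_center_iff.mp hc a
  -- an invariant subgroup is trivial or everything
  have hirr : ∀ Y : Subgroup E, V ⊓ centralizer ((Y.map f : Subgroup G) : Set G) = ⊥ ∨
      V ⊓ centralizer ((Y.map f : Subgroup G) : Set G) = V := by
    intro Y
    refine or_iff_not_imp_left.mpr fun hne => hred _ inf_le_left ?_ ?_ hne
    · rintro _ ⟨e, rfl⟩
      rw [Subgroup.mem_normalizer_iff]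
      have key : ∀ e : E, ∀ w ∈ V ⊓ centralizer ((Y.map f : Subgroup G) : Set G),
          f e * w * (f e)⁻¹ ∈ V ⊓ centralizer ((Y.map f : Subgroup G) : Set G) := by
        refine fun e w hw => ⟨(Subgroup.mem_normalizer_iff.mp (hf ⟨e, rfl⟩) w).mp hw.1, ?_⟩
        refine mem_centralizer_iff.mpr ?_
        rintro _ ⟨y, hy, rfl⟩
        have h1 : f y * w = w * f y := mem_centralizer_iff.mp hw.2 _ ⟨y, hy, rfl⟩
        have h2 : Commute (f y) (f e) := by
          show f y * f e = f e * f y
          rw [← map_mul, ← map_mul, hEc]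
        exact ((h2.mul_right h1).mul_right h2.inv_right).eq
      exact fun w => ⟨key e w, fun hw => by simpa [mul_assoc, map_inv] using key e⁻¹ _ hw⟩
    · intro v hv
      rw [Subgroup.mem_normalizer_iff]
      have key : ∀ v ∈ V, ∀ w ∈ V ⊓ centralizer ((Y.map f : Subgroup G) : Set G),
          v * w * v⁻¹ ∈ V ⊓ centralizer ((Y.map f : Subgroup G) : Set G) := fun v hv w hw => by
        have := congrArg Subtype.val (IsMulCommutative.is_comm.comm (⟨v, hv⟩ : V) ⟨w, hw.1⟩)
        simp only [Subgroup.coe_mul] at this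
        rwa [this, mul_inv_cancel_right]
      exact fun w => ⟨key v hv w, fun h => by simpa [mul_assoc] using key v⁻¹ (inv_mem hv) _ h⟩
  have hone : fixCard V f.range = 1 := by
    rw [fixCard, MonoidHom.range_eq_map]
    rcases hirr ⊤ with h | h
    · rw [h, card_bot]
    · exact absurd (by rw [MonoidHom.range_eq_map]; exact inf_eq_left.mp h) htriv
  obtain ⟨B₀, hB₀, hB₀V⟩ : ∃ B ∈ hyp E q, V ⊓ centralizer ((B.map f : Subgroup G) : Set G) = V := by
    by_contra hnone
    push Not at hnone
    refine htriv (le_trans ?_ bot_le)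
    exact le_of_fixed_le hE hEc hEe V ⊥ f hf hcop fun B hB =>
      ((hirr B).resolve_right (hnone B hB)).le
  rw [hone, one_pow, mul_one, Finset.prod_eq_single B₀]
  · rw [fixCard, hB₀V]
  · intro B hB hne
    rw [fixCard]
    rcases hirr B with h | h
    · rw [h, card_bot]
    · refine absurd ?_ htriv
      intro v hv
      refine mem_centralizer_iff.mpr ?_
      rintro _ ⟨e, rfl⟩
      have htop : B₀ ⊔ B = ⊤ := by
        refine eq_top_of_card_eq _ ?_
        have hlt : B₀ < B₀ ⊔ B := lt_of_le_of_ne le_sup_left fun h' => hne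
          (eq_of_le_of_card_ge (h' ▸ le_sup_right : B ≤ B₀) (by rw [mem_hyp.mp hB, mem_hyp.mp hB₀]))
        obtain ⟨j, hj, hj'⟩ := (Nat.dvd_prime_pow hq.out).mp (hE ▸ card_subgroup_dvd_card (B₀ ⊔ B))
        have hlt' : q ^ 2 < q ^ j := by
          rw [← mem_hyp.mp hB₀, ← hj']
          exact lt_of_le_of_ne (card_le_of_le hlt.le) fun h' =>
            hlt.ne (eq_of_le_of_card_ge hlt.le h'.ge)
        have := (Nat.pow_lt_pow_iff_right hq.out.one_lt).mp hlt'
        rw [hE, hj', show j = 3 by omega]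
      have hc : (⊤ : Subgroup E) ≤ (centralizer ({v} : Set G)).comap f := by
        rw [← htop, sup_le_iff]
        constructor <;> intro b hb
        · exact mem_centralizer_singleton_iff.mpr
            (mem_centralizer_iff.mp (hB₀V.symm ▸ hv : v ∈ V ⊓ centralizer ((B₀.map f : Subgroup G) : Set G)).2 _ ⟨b, hb, rfl⟩)
        · exact mem_centralizer_singleton_iff.mpr
            (mem_centralizer_iff.mp (h.symm ▸ hv : v ∈ V ⊓ centralizer ((B.map f : Subgroup G) : Set G)).2 _ ⟨b, hb, rfl⟩)
      exact mem_centralizer_singleton_iff.mp (hc (mem_top e))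
  · exact fun h => absurd hB₀ h

include hEe in
/-- The order formula. -/
theorem formula (V : Subgroup G) (f : E →* G) (hf : f.range ≤ normalizer (V : Set G))
    (hcop : (Nat.card E).Coprime (Nat.card V)) :
    Nat.card V * fixCard V f.range ^ ((hyp E q).card - 1) = ∏ B ∈ hyp E q, fixCard V (B.map f) :=
  formula_aux hE hEc hEe _ G V f rfl hf hcop

end Cfsg.Agent.H62.BoundedDerived
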