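import Mathlib.GroupTheory.Schreier
import Mathlib.GroupTheory.Abelianization.Defs

/-!
A finite group generated by `s` elements of exponent dividing `N`, each with at most `M` conjugates,
has bounded order.
-/

set_option autoImplicit false

namespace Cfsg.Agent.H62.BoundedDerived

open Subgroup
open scoped commutatorElement

universe u

/-- A finite abelian group generated by `S` with exponent dividing `N` on `S`. -/
theorem card_le_pow_of_closure {Q : Type u} [Group Q] [Finite Q] (hc : ∀ a b : Q, a * b = b * a)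
    (S : Finset Q) {N : ℕ} (hN : 0 < N) (hS : ∀ x ∈ S, x ^ N = 1) :
    Nat.card (closure (S : Set Q)) ≤ N ^ S.card := by
  classical
  induction S using Finset.induction with
  | empty => simp
  | insert x S hx ih =>
    have ih' := ih fun y hy => hS y (Finset.mem_insert_of_mem hy)
    rw [Finset.coe_insert, Set.insert_eq, Subgroup.closure_union, ← zpowers_eq_closure]
    haveI : (closure (S : Set Q)).Normal :=
      ⟨fun n hn g => by rwa [hc g n, mul_inv_cancel_right]⟩
    have hsurj : Function.Surjective (fun y : zpowers x × closure (S : Set Q) =>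
        (⟨(y.1 : Q) * y.2, mul_mem (mem_sup_left y.1.2) (mem_sup_right y.2.2)⟩ :
          ↥(zpowers x ⊔ closure (S : Set Q)))) := by
      rintro ⟨e, he⟩
      obtain ⟨a, ha, b, hb, rfl⟩ := mem_sup_of_normal_right.mp he
      exact ⟨(⟨a, ha⟩, ⟨b, hb⟩), rfl⟩
    refine (Nat.card_le_card_of_surjective _ hsurj).trans ?_
    rw [Nat.card_prod, Nat.card_zpowers, Finset.card_insert_of_notMem hx, pow_succ, mul_comm (N ^ _)]
    exact Nat.mul_le_mul (Nat.le_of_dvd hN (orderOf_dvd_of_pow_eq_one (hS x (Finset.mem_insert_self x S)))) ih'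

/-- The explicit bound. -/
def schurBound (M N s : ℕ) : ℕ :=
  ((M ^ s) ^ (M ^ s * (M ^ s * M ^ s) + 1)) * N ^ s

theorem card_le_schurBound {D : Type u} [Group D] [Finite D] (S : Finset D)
    (hgen : closure (S : Set D) = ⊤) {M N s : ℕ} (hM : 0 < M) (hN : 0 < N) (hs : S.card ≤ s)
    (hcl : ∀ t ∈ S, (centralizer ({t} : Set D)).index ≤ M) (hexp : ∀ t ∈ S, t ^ N = 1) :
    Nat.card D ≤ schurBound M N s := by
  classical
  have hle : (⨅ t : S, centralizer ({(t : D)} : Set D)) ≤ center D := by
    intro z hz
    rw [mem_center_iff]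
    intro g
    have : (closure (S : Set D)) ≤ centralizer ({z} : Set D) := by
      rw [closure_le]
      intro t ht
      exact mem_centralizer_singleton_iff.mpr
        ((mem_centralizer_singleton_iff.mp (mem_iInf.mp hz ⟨t, ht⟩)).symm)
    exact mem_centralizer_singleton_iff.mp (this (hgen ▸ mem_top g))
  have hi : (center D).index ≤ M ^ s := by
    calc (center D).index ≤ (⨅ t : S, centralizer ({(t : D)} : Set D)).index :=
          Nat.le_of_dvd (Nat.pos_of_ne_zero index_ne_zero_of_finite) (index_dvd_of_le hle)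
      _ ≤ ∏ t : S, (centralizer ({(t : D)} : Set D)).index := index_iInf_le _
      _ ≤ ∏ _t : S, M := Finset.prod_le_prod' fun t _ => hcl t t.2
      _ = M ^ S.card := by simp
      _ ≤ M ^ s := Nat.pow_le_pow_right hM hs
  have hset : Nat.card (commutatorSet D) ≤ M ^ s * M ^ s := by
    have hsurj : Function.Surjective (fun y : (D ⧸ center D) × (D ⧸ center D) =>
        (⟨⁅y.1.out, y.2.out⁆, commutator_mem_commutatorSet _ _⟩ : commutatorSet D)) := by
      rintro ⟨_, a, b, rfl⟩
      refine ⟨(QuotientGroup.mk a, QuotientGroup.mk b), Subtype.ext ?_⟩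
      obtain ⟨za, hza⟩ := QuotientGroup.mk_out_eq_mul (center D) a
      obtain ⟨zb, hzb⟩ := QuotientGroup.mk_out_eq_mul (center D) b
      simp only [hza, hzb, commutatorElement_def]
      have h1 : ∀ x : D, (za : D) * x = x * za := fun x => (mem_center_iff.mp za.2 x).symm
      have h2 : ∀ x : D, (zb : D) * x = x * zb := fun x => (mem_center_iff.mp zb.2 x).symm
      calc a * za * (b * zb) * (a * za)⁻¹ * (b * zb)⁻¹
          = a * ((za : D) * (b * zb)) * ((za : D)⁻¹ * a⁻¹) * ((zb : D)⁻¹ * b⁻¹) := by group
        _ = a * (b * zb * za) * ((za : D)⁻¹ * a⁻¹) * ((zb : D)⁻¹ * b⁻¹) := by rw [h1]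
        _ = a * b * ((zb : D) * a⁻¹) * ((zb : D)⁻¹ * b⁻¹) := by group
        _ = a * b * (a⁻¹ * zb) * ((zb : D)⁻¹ * b⁻¹) := by rw [h2]
        _ = a * b * a⁻¹ * b⁻¹ := by group
    refine (Nat.card_le_card_of_surjective _ hsurj).trans ?_
    rw [Nat.card_prod, ← index_eq_card]
    exact Nat.mul_le_mul hi hi
  have h1 : Nat.card (commutator D) ≤ (M ^ s) ^ (M ^ s * (M ^ s * M ^ s) + 1) := by
    refine (Nat.le_of_dvd (pow_pos (Nat.pos_of_ne_zero index_ne_zero_of_finite) _)
      (card_commutator_dvd_index_center_pow D)).trans ?_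
    refine (Nat.pow_le_pow_left hi _).trans (Nat.pow_le_pow_right (pow_pos hM _) ?_)
    exact Nat.add_le_add_right (Nat.mul_le_mul hi hset) 1
  have h2 : Nat.card (D ⧸ commutator D) ≤ N ^ s := by
    set π := QuotientGroup.mk' (commutator D) with hπ
    have hcomm : ∀ a b : D ⧸ commutator D, a * b = b * a := fun a b =>
      mul_comm (G := Abelianization D) a b
    have hcl2 : closure ((S.image π : Finset _) : Set (D ⧸ commutator D)) = ⊤ := by
      rw [Finset.coe_image, ← MonoidHom.map_closure, hgen,
        map_top_of_surjective _ (QuotientGroup.mk'_surjective _)]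
    have := card_le_pow_of_closure hcomm (S.image π) hN (by
      intro x hx
      obtain ⟨t, ht, rfl⟩ := Finset.mem_image.mp hx
      rw [← map_pow, hexp t ht, map_one])
    rw [hcl2, card_top] at this
    exact this.trans (Nat.pow_le_pow_right hN (Finset.card_image_le.trans hs))
  rw [card_eq_card_quotient_mul_card_subgroup (commutator D), schurBound, mul_comm]
  exact Nat.mul_le_mul h1 h2

end Cfsg.Agent.H62.BoundedDerived
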