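import Cfsg.Agent.H62.BoundedDerived.Formula
import Cfsg.Agent.H62.BoundedDerived.Schur

/-!
An elementary abelian group of order `q ^ 3` acting coprimely: if the fixed points of nontrivial
elements have derived subgroup of order at most `m`, then so has `G`, up to a function of `q, m`.
-/

set_option autoImplicit false

namespace Cfsg.Agent.H62.BoundedDerived

open Subgroup
open scoped commutatorElement

universe u v

variable {A : Type v} {G : Type u} [Group A] [Finite A] [Group G] [Finite G] [MulDistribMulAction A G]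

/-- The fixed points of a subgroup. -/
def fix (G : Type u) [Group G] [MulDistribMulAction A G] (B : Subgroup A) : Subgroup G :=
  FixedPoints.subgroup B G

omit [Finite A] [Finite G] in
theorem mem_fix {B : Subgroup A} {x : G} : x ∈ fix G B ↔ ∀ b ∈ B, b • x = x :=
  ⟨fun h b hb => h ⟨b, hb⟩, fun h b => h b b.2⟩

omit [Finite A] [Finite G] in
theorem smul_commutatorElement (a : A) (x y : G) : a • ⁅x, y⁆ = ⁅a • x, a • y⁆ :=
  map_commutatorElement (MulDistribMulAction.toMonoidHom G a) x y

local notation "Γ" => G ⋊[MulDistribMulAction.toMulAut A G] A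

omit [Finite A] [Finite G] in
theorem inr_mul_inl (a : A) (x : G) :
    (SemidirectProduct.inr a : Γ) * SemidirectProduct.inl x * (SemidirectProduct.inr a)⁻¹ =
      SemidirectProduct.inl (a • x) := by
  rw [← map_inv, ← SemidirectProduct.inl_aut]
  rfl

omit [Finite A] [Finite G] in
theorem inl_inf_centralizer (H : Subgroup G) (B : Subgroup A) :
    H.map (SemidirectProduct.inl : G →* Γ) ⊓
      centralizer ((B.map (SemidirectProduct.inr : A →* Γ) : Subgroup Γ) : Set Γ) =
      (H ⊓ fix G B).map (SemidirectProduct.inl : G →* Γ) := by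
  refine le_antisymm ?_ ?_
  · rintro _ ⟨⟨x, hx, rfl⟩, hc⟩
    refine ⟨x, ⟨hx, mem_fix.mpr fun b hb => SemidirectProduct.inl_injective
      (φ := MulDistribMulAction.toMulAut A G) ?_⟩, rfl⟩
    rw [← inr_mul_inl, mul_inv_eq_iff_eq_mul]
    exact mem_centralizer_iff.mp hc _ ⟨b, hb, rfl⟩
  · rintro _ ⟨x, ⟨hx, hf⟩, rfl⟩
    refine ⟨⟨x, hx, rfl⟩, mem_centralizer_iff.mpr ?_⟩
    rintro _ ⟨b, hb, rfl⟩
    rw [← mul_inv_eq_iff_eq_mul, inr_mul_inl, mem_fix.mp hf b hb]

omit [Finite A] [Finite G] in
theorem range_le_normalizer (H : Subgroup G) (hH : ∀ a : A, ∀ x ∈ H, a • x ∈ H) :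
    (SemidirectProduct.inr : A →* Γ).range ≤
      normalizer ((H.map (SemidirectProduct.inl : G →* Γ) : Subgroup Γ) : Set Γ) := by
  have key : ∀ a : A, ∀ w ∈ H.map (SemidirectProduct.inl : G →* Γ),
      (SemidirectProduct.inr a : Γ) * w * (SemidirectProduct.inr a)⁻¹ ∈
        H.map (SemidirectProduct.inl : G →* Γ) := by
    rintro a _ ⟨x, hx, rfl⟩
    exact ⟨a • x, hH a x hx, (inr_mul_inl a x).symm⟩
  rintro _ ⟨a, rfl⟩
  rw [Subgroup.mem_normalizer_iff]
  exact fun w => ⟨key a w, fun hw => by simpa [mul_assoc, map_inv] using key a⁻¹ _ hw⟩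

variable {q m : ℕ} [hq : Fact q.Prime] (hA : Nat.card A = q ^ 3) (hAc : ∀ a b : A, a * b = b * a)
  (hAe : ∀ a : A, a ^ q = 1) (hcop : ¬ q ∣ Nat.card G)

include hA hAc hAe hcop

omit hAc hAe in
theorem coprime_map (H : Subgroup G) :
    (Nat.card A).Coprime (Nat.card (H.map (SemidirectProduct.inl : G →* Γ))) := by
  rw [card_map_of_injective SemidirectProduct.inl_injective, hA]
  exact (((Nat.Prime.coprime_iff_not_dvd hq.out).mpr hcop).coprime_dvd_right
    (card_subgroup_dvd_card H)).pow_left 3

/-- The order formula for an invariant subgroup. -/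
theorem formula_action (H : Subgroup G) (hH : ∀ a : A, ∀ x ∈ H, a • x ∈ H) :
    Nat.card H * Nat.card (H ⊓ fix G (⊤ : Subgroup A) : Subgroup G) ^ ((hyp A q).card - 1) =
      ∏ B ∈ hyp A q, Nat.card (H ⊓ fix G B : Subgroup G) := by
  haveI : Finite Γ := Finite.of_equiv _ SemidirectProduct.equivProd.symm
  have h := formula (E := A) hA hAc hAe (H.map (SemidirectProduct.inl : G →* Γ))
    (SemidirectProduct.inr : A →* Γ) (range_le_normalizer H hH) (coprime_map hA hcop H)
  simp only [H75.fixCard, MonoidHom.range_eq_map, inl_inf_centralizer,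
    card_map_of_injective SemidirectProduct.inl_injective] at h
  exact h

/-- `G` is generated by the fixed points of the subgroups of order `q ^ 2`. -/
theorem iSup_fix : (⨆ B ∈ hyp A q, fix G B) = ⊤ := by
  haveI : Finite Γ := Finite.of_equiv _ SemidirectProduct.equivProd.symm
  rw [eq_top_iff]
  have h := le_of_fixed_le (E := A) hA hAc hAe ((⊤ : Subgroup G).map (SemidirectProduct.inl : G →* Γ))
    ((⨆ B ∈ hyp A q, fix G B).map (SemidirectProduct.inl : G →* Γ))
    (SemidirectProduct.inr : A →* Γ) (range_le_normalizer _ fun _ _ _ => mem_top _)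
    (coprime_map hA hcop ⊤) fun B hB => by
      rw [inl_inf_centralizer, top_inf_eq]
      exact map_mono (le_iSup₂_of_le B hB le_rfl)
  exact (map_le_map_iff_of_injective SemidirectProduct.inl_injective).mp h

variable (hm : ∀ a : A, a ≠ 1 → Nat.card (commutator (FixedPoints.subgroup (zpowers a) G)) ≤ m)

include hm

omit hAc hAe hcop hm in
theorem commutator_mem {B₁ B₂ : Subgroup A} (h₁ : B₁ ∈ hyp A q) (h₂ : B₂ ∈ hyp A q) :
    ∃ a : A, a ≠ 1 ∧ ∀ x ∈ fix G B₁, ∀ y ∈ fix G B₂,
      ⁅x, y⁆ ∈ (commutator (FixedPoints.subgroup (zpowers a) G)).map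
        (FixedPoints.subgroup (zpowers a) G).subtype := by
  obtain ⟨a, ha, ha₁, ha₂⟩ := exists_common hA h₁ h₂
  refine ⟨a, ha, fun x hx y hy => ?_⟩
  have hm' : ∀ {B : Subgroup A}, a ∈ B → ∀ z ∈ fix G B, z ∈ FixedPoints.subgroup (zpowers a) G :=
    fun {B} hB z hz c => mem_fix.mp hz c (zpowers_le.mpr hB c.2)
  exact ⟨⁅⟨x, hm' ha₁ x hx⟩, ⟨y, hm' ha₂ y hy⟩⁆,
    Subgroup.commutator_mem_commutator (mem_top _) (mem_top _), map_commutatorElement _ _ _⟩

omit hcop in
/-- The index of the centraliser of the orbit of `u` in each `fix B`. -/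
theorem relIndex_le {B₁ B : Subgroup A} (h₁ : B₁ ∈ hyp A q) (hB : B ∈ hyp A q) {u : G}
    (hu : u ∈ fix G B₁) :
    (⨅ a : A, centralizer ({a • u} : Set G)).relIndex (fix G B) ≤ m ^ (q ^ 3) := by
  obtain ⟨c, hc, hcm⟩ := commutator_mem (G := G) hA h₁ hB
  set D := (commutator (FixedPoints.subgroup (zpowers c) G)).map
    (FixedPoints.subgroup (zpowers c) G).subtype with hD
  have hsm : ∀ a : A, a • u ∈ fix G B₁ := fun a => mem_fix.mpr fun b hb => by
    rw [← mul_smul, hAc b a, mul_smul, mem_fix.mp hu b hb]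
  set L := (⨅ a : A, centralizer ({a • u} : Set G)).subgroupOf (fix G B) with hL
  let g : ↥(fix G B) ⧸ L → A → D := fun x a =>
    ⟨⁅a • u, ((x.out : ↥(fix G B)) : G)⁆, hcm _ (hsm a) _ x.out.2⟩
  have hinj : Function.Injective g := by
    intro x y hxy
    rw [← x.out_eq', ← y.out_eq', QuotientGroup.eq]
    refine mem_subgroupOf.mpr (mem_iInf.mpr fun a => ?_)
    have h1 := congrArg Subtype.val (congrFun hxy a)
    simp only [g, commutatorElement_def, mul_assoc, mul_left_cancel_iff] at h1
    rw [mem_centralizer_singleton_iff]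
    simp only [Subgroup.coe_mul, Subgroup.coe_inv]
    calc ((x.out : ↥(fix G B)) : G)⁻¹ * y.out * (a • u)
        = (a • u) * ((x.out : G)⁻¹ * ((x.out : G) * ((a • u)⁻¹ * (x.out : G)⁻¹))) * (y.out * (a • u)) := by
          group
      _ = (a • u) * ((x.out : G)⁻¹ * ((y.out : G) * ((a • u)⁻¹ * (y.out : G)⁻¹))) * (y.out * (a • u)) := by
          rw [h1]
      _ = (a • u) * (((x.out : ↥(fix G B)) : G)⁻¹ * y.out) := by group
  rw [Subgroup.relIndex, ← hL, index_eq_card]
  refine (Nat.card_le_card_of_injective g hinj).trans ?_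
  rw [Nat.card_fun, hA]
  refine Nat.pow_le_pow_left ?_ _
  rw [hD, card_map_of_injective (subtype_injective _)]
  exact hm c hc

/-- Every element fixed by a subgroup of order `q ^ 2` has boundedly many conjugates. -/
theorem index_centralizer_le {B₁ : Subgroup A} (h₁ : B₁ ∈ hyp A q) {u : G} (hu : u ∈ fix G B₁) :
    (centralizer ({u} : Set G)).index ≤ (m ^ (q ^ 3)) ^ (hyp A q).card := by
  set L : Subgroup G := ⨅ a : A, centralizer ({a • u} : Set G) with hL
  have hLinv : ∀ b : A, ∀ x ∈ L, b • x ∈ L := by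
    intro b x hx
    rw [hL, mem_iInf] at hx ⊢
    intro a
    rw [mem_centralizer_singleton_iff]
    have h := congrArg (b • ·) (mem_centralizer_singleton_iff.mp (hx (b⁻¹ * a)))
    simpa only [smul_mul', ← mul_smul, mul_inv_cancel_left] using h
  set e := m ^ (q ^ 3) with he
  set k := (hyp A q).card with hk
  set c := Nat.card (fix G (⊤ : Subgroup A)) with hc
  have hG := formula_action hA hAc hAe hcop (⊤ : Subgroup G) fun _ _ _ => mem_top _
  simp only [top_inf_eq, card_top] at hG
  have hFL := formula_action hA hAc hAe hcop L hLinv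
  have hB : ∀ B ∈ hyp A q, Nat.card (fix G B) ≤ e * Nat.card (L ⊓ fix G B : Subgroup G) := by
    intro B hB
    rw [← card_mul_index (L.subgroupOf (fix G B)), mul_comm e,
      ← Nat.card_congr (subgroupOfEquivOfLe (inf_le_right : L ⊓ fix G B ≤ _)).toEquiv, inf_subgroupOf_right]
    exact Nat.mul_le_mul_left _ (relIndex_le hA hAc hAe hm h₁ hB hu)
  have h1 : Nat.card G * c ^ (k - 1) ≤ e ^ k * Nat.card L * c ^ (k - 1) := by
    calc Nat.card G * c ^ (k - 1) = ∏ B ∈ hyp A q, Nat.card (fix G B) := hG
      _ ≤ ∏ B ∈ hyp A q, e * Nat.card (L ⊓ fix G B : Subgroup G) := Finset.prod_le_prod' hB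
      _ = e ^ k * (Nat.card L * Nat.card (L ⊓ fix G (⊤ : Subgroup A) : Subgroup G) ^ (k - 1)) := by
          rw [Finset.prod_mul_distrib, Finset.prod_const, hFL]
      _ ≤ e ^ k * (Nat.card L * c ^ (k - 1)) :=
          Nat.mul_le_mul_left _ (Nat.mul_le_mul_left _
            (Nat.pow_le_pow_left (card_le_of_le inf_le_right) _))
      _ = _ := (mul_assoc _ _ _).symm
  have h2 : Nat.card G ≤ e ^ k * Nat.card L :=
    Nat.le_of_mul_le_mul_right h1 (pow_pos Nat.card_pos _)
  have hLu : L ≤ centralizer ({u} : Set G) := (iInf_le _ (1 : A)).trans (by rw [one_smul])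
  refine (Nat.le_of_dvd (Nat.pos_of_ne_zero index_ne_zero_of_finite) (index_dvd_of_le hLu)).trans ?_
  refine Nat.le_of_mul_le_mul_left ?_ (Nat.card_pos (α := L))
  rw [card_mul_index, mul_comm]
  exact h2

omit [Finite A] hA hAc hAe hcop hm hq in
theorem index_centralizer_conj (g y : G) :
    (centralizer ({g * y * g⁻¹} : Set G)).index = (centralizer ({y} : Set G)).index := by
  have : centralizer ({g * y * g⁻¹} : Set G) =
      (centralizer ({y} : Set G)).map (MulAut.conj g).toMonoidHom := by
    ext z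
    rw [Subgroup.mem_map_equiv, mem_centralizer_singleton_iff, mem_centralizer_singleton_iff,
      MulAut.conj_symm_apply]
    constructor <;> intro h
    · calc g⁻¹ * z * g * y = g⁻¹ * (z * (g * y * g⁻¹)) * g := by group
        _ = y * (g⁻¹ * z * g) := by rw [h]; group
    · calc z * (g * y * g⁻¹) = g * (g⁻¹ * z * g * y) * g⁻¹ := by group
        _ = g * y * g⁻¹ * z := by rw [h]; group
  rw [this]
  exact Subgroup.index_map_equiv _ (MulAut.conj g)

/-- The bound. -/
def bound (q m : ℕ) : ℕ :=
  let M := ((max m 1) ^ (q ^ 3)) ^ (2 ^ (q ^ 3))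
  schurBound (M * M) m.factorial (q ^ 3 * m * (M * M))

theorem card_commutator_le : Nat.card (commutator G) ≤ bound q m := by
  classical
  set M := ((max m 1) ^ (q ^ 3)) ^ (2 ^ (q ^ 3)) with hMdef
  have hM0 : 0 < M := pow_pos (pow_pos (lt_max_of_lt_right one_pos) _) _
  have hX : ∀ B ∈ hyp A q, ∀ u ∈ fix G B, (centralizer ({u} : Set G)).index ≤ M := by
    intro B hB u hu
    refine (index_centralizer_le hA hAc hAe hcop hm hB hu).trans ?_
    refine (Nat.pow_le_pow_left (Nat.pow_le_pow_left (le_max_left m 1) _) _).trans ?_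
    refine Nat.pow_le_pow_right (pow_pos (lt_max_of_lt_right one_pos) _) ?_
    letI := Fintype.ofFinite A
    refine (Finset.card_le_card_of_injOn (fun B : Subgroup A => (Finset.univ.filter fun a => a ∈ B))
      (t := (Finset.univ : Finset A).powerset) (fun B _ => by simp) fun B _ B' _ h => ?_).trans ?_
    · ext a
      simpa using Finset.ext_iff.mp h a
    · rw [Finset.card_powerset, Finset.card_univ, ← Nat.card_eq_fintype_card, hA]
  -- the commutators of the generators
  let Y : Finset G := (Set.toFinite {z : G | ∃ B₁ ∈ hyp A q, ∃ B₂ ∈ hyp A q,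
    ∃ x ∈ fix G B₁, ∃ y ∈ fix G B₂, ⁅x, y⁆ = z}).toFinset
  have hYmem : ∀ z, z ∈ Y ↔ ∃ B₁ ∈ hyp A q, ∃ B₂ ∈ hyp A q,
      ∃ x ∈ fix G B₁, ∃ y ∈ fix G B₂, ⁅x, y⁆ = z := fun z => by simp [Y]
  have hYcard : Y.card ≤ q ^ 3 * m := by
    letI := Fintype.ofFinite A
    let cc : A → Finset G := fun a => (Set.toFinite (((commutator (FixedPoints.subgroup (zpowers a) G)).map
        (FixedPoints.subgroup (zpowers a) G).subtype : Subgroup G) : Set G)).toFinset
    have hsub : Y ⊆ ((Finset.univ : Finset A).filter (· ≠ 1)).biUnion cc := by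
      intro z hz
      obtain ⟨B₁, h₁, B₂, h₂, x, hx, y, hy, rfl⟩ := (hYmem z).mp hz
      obtain ⟨a, ha, hmem⟩ := commutator_mem (G := G) hA h₁ h₂
      exact Finset.mem_biUnion.mpr ⟨a, by simp [ha], by
        simp only [cc, Set.Finite.mem_toFinset]; exact hmem x hx y hy⟩
    refine (Finset.card_le_card hsub).trans (Finset.card_biUnion_le.trans ?_)
    refine (Finset.sum_le_card_nsmul _ _ m fun a ha => ?_).trans ?_
    · rw [← Set.ncard_eq_toFinset_card, ← Nat.card_coe_set_eq]
      exact (card_map_of_injective (subtype_injective _)).trans_le (hm a (by simpa using ha))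
    · rw [smul_eq_mul]
      refine Nat.mul_le_mul_right m ((Finset.card_filter_le _ _).trans ?_)
      rw [Finset.card_univ, ← Nat.card_eq_fintype_card, hA]
  have hYidx : ∀ z ∈ Y, (centralizer ({z} : Set G)).index ≤ M * M := by
    intro z hz
    obtain ⟨B₁, h₁, B₂, h₂, x, hx, y, hy, rfl⟩ := (hYmem z).mp hz
    have hle : centralizer ({x} : Set G) ⊓ centralizer ({y} : Set G) ≤ centralizer ({⁅x, y⁆} : Set G) := by
      intro w hw
      have h1 : Commute w x := mem_centralizer_singleton_iff.mp hw.1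
      have h2 : Commute w y := mem_centralizer_singleton_iff.mp hw.2
      exact mem_centralizer_singleton_iff.mpr
        (((h1.mul_right h2).mul_right h1.inv_right).mul_right h2.inv_right).eq
    refine (Nat.le_of_dvd (Nat.pos_of_ne_zero index_ne_zero_of_finite) (index_dvd_of_le hle)).trans ?_
    exact index_inf_le.trans (Nat.mul_le_mul (hX B₁ h₁ x hx) (hX B₂ h₂ y hy))
  have hYexp : ∀ z ∈ Y, z ^ m.factorial = 1 := by
    intro z hz
    obtain ⟨B₁, h₁, B₂, h₂, x, hx, y, hy, rfl⟩ := (hYmem z).mp hz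
    obtain ⟨a, ha, hmem⟩ := commutator_mem (G := G) hA h₁ h₂
    obtain ⟨w, hw, hwz⟩ := hmem x hx y hy
    have h1 : (⟨w, hw⟩ : commutator (FixedPoints.subgroup (zpowers a) G)) ^ m.factorial = 1 :=
      orderOf_dvd_iff_pow_eq_one.mp
        ((Nat.dvd_factorial (orderOf_pos _) (_root_.orderOf_le_card.trans (hm a ha))))
    rw [← hwz, ← map_pow, show w ^ m.factorial = 1 from congrArg Subtype.val h1, map_one]
  -- the conjugates of these commutators
  let T : Finset G := Y.biUnion fun z => (Set.toFinite {t : G | ∃ g : G, g * z * g⁻¹ = t}).toFinset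
  have hTmem : ∀ t, t ∈ T ↔ ∃ z ∈ Y, ∃ g : G, g * z * g⁻¹ = t := fun t => by simp [T]
  have hTcard : T.card ≤ q ^ 3 * m * (M * M) := by
    refine (Finset.card_biUnion_le).trans ((Finset.sum_le_card_nsmul _ _ (M * M) fun z hz => ?_).trans ?_)
    · refine le_trans ?_ (hYidx z hz)
      rw [← Set.ncard_eq_toFinset_card, ← Nat.card_coe_set_eq, index_eq_card]
      let φ : {t : G | ∃ g : G, g * z * g⁻¹ = t} → G ⧸ centralizer ({z} : Set G) :=
        fun t => QuotientGroup.mk t.2.choose
      refine Nat.card_le_card_of_injective φ fun s t hst => Subtype.ext ?_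
      have h := mem_centralizer_singleton_iff.mp (QuotientGroup.eq.mp hst)
      rw [← s.2.choose_spec, ← t.2.choose_spec]
      calc s.2.choose * z * s.2.choose⁻¹
          = s.2.choose * (z * (s.2.choose⁻¹ * t.2.choose)) * t.2.choose⁻¹ := by group
        _ = t.2.choose * z * t.2.choose⁻¹ := by rw [← h]; group
    · rw [smul_eq_mul]
      exact Nat.mul_le_mul_right _ hYcard
  have hTclosure : closure (T : Set G) = commutator G := by
    refine le_antisymm ((closure_le _).mpr fun t ht => ?_) ?_
    · obtain ⟨z, hz, g, rfl⟩ := (hTmem t).mp ht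
      obtain ⟨B₁, -, B₂, -, x, -, y, -, rfl⟩ := (hYmem z).mp hz
      exact (inferInstance : (commutator G).Normal).conj_mem _
        (Subgroup.commutator_mem_commutator (mem_top x) (mem_top y)) g
    haveI hN : (closure (T : Set G)).Normal := by
      refine ⟨fun n hn g => ?_⟩
      refine closure_induction (p := fun n _ => g * n * g⁻¹ ∈ closure (T : Set G))
        (fun t ht => ?_) (by simp) (fun a b _ _ ha hb => ?_) (fun a _ ha => ?_) hn
      · obtain ⟨z, hz, h, rfl⟩ := (hTmem t).mp ht
        exact subset_closure ((hTmem _).mpr ⟨z, hz, g * h, by group⟩)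
      · simpa [mul_assoc] using mul_mem ha hb
      · simpa [mul_assoc] using inv_mem ha
    set π := QuotientGroup.mk' (closure (T : Set G)) with hπ
    have hgen : ∀ x : G, π x ∈ center _ := by
      intro x
      have : (⊤ : Subgroup G) ≤ (center (G ⧸ closure (T : Set G))).comap π := by
        rw [← iSup_fix (G := G) hA hAc hAe hcop]
        refine iSup₂_le fun B₁ h₁ u hu => ?_
        rw [mem_comap, mem_center_iff]
        intro w
        obtain ⟨v, rfl⟩ := QuotientGroup.mk'_surjective _ w
        have hv : (⊤ : Subgroup G) ≤ (centralizer ({π u} : Set (G ⧸ closure (T : Set G)))).comap π := by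
          rw [← iSup_fix (G := G) hA hAc hAe hcop]
          refine iSup₂_le fun B₂ h₂ y hy => ?_
          rw [mem_comap, mem_centralizer_singleton_iff]
          refine (commutatorElement_eq_one_iff_mul_comm.mp ?_).symm
          rw [← map_commutatorElement, hπ, QuotientGroup.mk'_apply, QuotientGroup.eq_one_iff]
          exact subset_closure ((hTmem _).mpr ⟨⁅u, y⁆,
            (hYmem _).mpr ⟨B₁, h₁, B₂, h₂, u, hu, y, hy, rfl⟩, 1, by group⟩)
        exact mem_centralizer_singleton_iff.mp (hv (mem_top v))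
      exact this (mem_top x)
    rw [_root_.commutator_def, Subgroup.commutator_le]
    intro x _ y _
    rw [← QuotientGroup.eq_one_iff (N := closure (T : Set G)), ← QuotientGroup.mk'_apply, ← hπ,
      map_commutatorElement, commutatorElement_eq_one_iff_mul_comm]
    exact mem_center_iff.mp (hgen y) (π x)
  rw [← hTclosure]
  set D := closure (T : Set G) with hD
  let S : Finset D := T.subtype (· ∈ D)
  refine card_le_schurBound S ?_ (Nat.mul_pos hM0 hM0) (Nat.factorial_pos m) ?_ ?_ ?_
  · have : (S : Set D) = Subtype.val ⁻¹' (T : Set G) := by ext; simp [S]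
    rw [this]
    exact closure_closure_coe_preimage
  · refine le_trans ?_ hTcard
    rw [Finset.card_subtype]
    exact Finset.card_filter_le _ _
  · intro t ht
    obtain ⟨z, hz, g, hg⟩ := (hTmem t).mp (Finset.mem_subtype.mp ht)
    refine le_trans ?_ (hYidx z hz)
    rw [← index_centralizer_conj g z, hg]
    have h1 : centralizer ({t} : Set D) = (centralizer ({(t : G)} : Set G)).subgroupOf D := by
      ext w
      rw [mem_subgroupOf, mem_centralizer_singleton_iff, mem_centralizer_singleton_iff, Subtype.ext_iff,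
        Subgroup.coe_mul, Subgroup.coe_mul]
    rw [h1]
    calc (centralizer ({(t : G)} : Set G)).relIndex D ≤ (centralizer ({(t : G)} : Set G)).relIndex ⊤ :=
          relIndex_le_of_le_right le_top (by rw [relIndex_top_right]; exact index_ne_zero_of_finite)
      _ = _ := relIndex_top_right _
  · intro t ht
    obtain ⟨z, hz, g, hg⟩ := (hTmem t).mp (Finset.mem_subtype.mp ht)
    apply Subtype.ext
    rw [SubmonoidClass.coe_pow, ← hg, OneMemClass.coe_one, conj_pow, hYexp z hz, mul_one,
      mul_inv_cancel]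

end Cfsg.Agent.H62.BoundedDerived
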